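import Mathlib
import Groth.Prelude.Def_GSzMilK

/-!
# Elementary properties of Milnor K-groups
-/

set_option autoImplicit false

universe u v w

namespace Groth.Agent.H23MilK

open MilK

variable {F : Type u} [Field F]

/-- The symbol as a multilinear map. -/
noncomputable def sym (F : Type u) [Field F] (n : ℕ) :
    MultilinearMap ℤ (fun _ : Fin n => Additive Fˣ) (K F n) :=
  (mk F n).toIntLinearMap.compMultilinearMap (PiTensorProduct.tprod ℤ)

theorem sym_apply {n : ℕ} (x : Fin n → Additive Fˣ) : sym F n x = symbol fun i => (x i).toMul := rfl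

theorem symbol_eq_sym {n : ℕ} (x : Fin n → Fˣ) : symbol x = sym F n fun i => Additive.ofMul (x i) := rfl

theorem ofMul_update {n : ℕ} (x : Fin n → Fˣ) (i : Fin n) (a : Fˣ) :
    (fun j => Additive.ofMul (Function.update x i a j)) =
      Function.update (fun j => Additive.ofMul (x j)) i (Additive.ofMul a) :=
  Function.comp_update Additive.ofMul x i a

theorem symbol_update_mul {n : ℕ} (x : Fin n → Fˣ) (i : Fin n) (a b : Fˣ) :
    symbol (Function.update x i (a * b)) =
      symbol (Function.update x i a) + symbol (Function.update x i b) := by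
  rw [symbol_eq_sym, symbol_eq_sym, symbol_eq_sym, ofMul_update, ofMul_update, ofMul_update,
    ofMul_mul, MultilinearMap.map_update_add]

theorem symbol_eq_zero_of_eq_one {n : ℕ} (x : Fin n → Fˣ) (i : Fin n) (h : x i = 1) :
    symbol x = 0 := by
  rw [symbol_eq_sym]
  exact (sym F n).map_coord_zero i (by simp [h])

theorem symbol_update_zpow {n : ℕ} (x : Fin n → Fˣ) (i : Fin n) (a : Fˣ) (k : ℤ) :
    symbol (Function.update x i (a ^ k)) = k • symbol (Function.update x i a) := by
  rw [symbol_eq_sym, symbol_eq_sym, ofMul_update, ofMul_update, ofMul_zpow,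
    MultilinearMap.map_update_smul]

theorem symbol_update_inv {n : ℕ} (x : Fin n → Fˣ) (i : Fin n) (a : Fˣ) :
    symbol (Function.update x i a⁻¹) = -symbol (Function.update x i a) := by
  rw [← zpow_neg_one, symbol_update_zpow, neg_one_zsmul]

theorem mem_of_symbol {n : ℕ} {H : AddSubgroup (K F n)} (h : ∀ x, symbol x ∈ H) (z : K F n) :
    z ∈ H := by
  obtain ⟨t, rfl⟩ := mk_surjective F n z
  induction t using PiTensorProduct.induction_on with
  | smul_tprod r x =>
    rw [map_zsmul]
    exact H.zsmul_mem (h fun i => (x i).toMul) r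
  | add s t hs ht => rw [map_add]; exact H.add_mem hs ht

theorem hom_ext {M : Type w} [AddCommGroup M] {n : ℕ} {f g : K F n →+ M}
    (h : ∀ x, f (symbol x) = g (symbol x)) : f = g :=
  AddMonoidHom.ext fun z => mem_of_symbol (H := (f - g).ker)
    (fun x => by simp [AddMonoidHom.mem_ker, h x]) z |> fun h => sub_eq_zero.mp h

theorem symbol_eq_zero_of_add_eq_one {n : ℕ} (x : Fin n → Fˣ) {i j : Fin n} (hij : i ≠ j)
    (h : (x i : F) + x j = 1) : symbol x = 0 := by
  rcases lt_or_gt_of_ne hij with hl | hl
  · exact symbol_eq_zero_of_isSteinberg x ⟨i, j, hl, h⟩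
  · exact symbol_eq_zero_of_isSteinberg x ⟨j, i, hl, by rwa [add_comm]⟩

theorem symbol_eq_zero_of_eq_neg {n : ℕ} (x : Fin n → Fˣ) {i j : Fin n} (hij : i ≠ j)
    (h : x j = -x i) : symbol x = 0 := by
  by_cases ha : (x i : F) = 1
  · exact symbol_eq_zero_of_eq_one x i (Units.ext ha)
  have hne : (x i : F) ≠ 0 := (x i).ne_zero
  have h1 : 1 - (x i : F) ≠ 0 := sub_ne_zero.mpr (Ne.symm ha)
  have h2 : 1 - (x i : F)⁻¹ ≠ 0 := sub_ne_zero.mpr (fun h => ha (inv_eq_one.mp h.symm))
  set b := Units.mk0 _ h1
  set c := Units.mk0 _ h2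
  have hxj : x j = b * c⁻¹ := by
    rw [h, eq_mul_inv_iff_mul_eq]
    ext
    simp only [b, c, Units.val_mul, Units.val_neg, Units.val_mk0]
    field_simp
    ring
  have hx : x = Function.update x j (b * c⁻¹) := by rw [← hxj, Function.update_eq_self]
  have e1 : symbol (Function.update x j b) = (0 : K F n) :=
    symbol_eq_zero_of_add_eq_one _ hij (by simp [Function.update_of_ne hij, b])
  have e2 : symbol (Function.update x j c) = (0 : K F n) := by
    have h3 : symbol (Function.update (Function.update x j c) i (x i)⁻¹) = (0 : K F n) :=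
      symbol_eq_zero_of_add_eq_one _ hij (by simp [Function.update_of_ne hij.symm, c])
    rw [symbol_update_inv, neg_eq_zero] at h3
    rwa [show Function.update (Function.update x j c) i (x i) = Function.update x j c by
      rw [Function.update_comm hij.symm, Function.update_eq_self]] at h3
  rw [hx, symbol_update_mul, symbol_update_inv, e1, e2, neg_zero, add_zero]

theorem symbol_swap {n : ℕ} (x : Fin n → Fˣ) {i j : Fin n} (hij : i ≠ j) :
    symbol (x ∘ Equiv.swap i j) = -symbol x := by
  set a := x i
  set b := x j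
  let up : Fˣ → Fˣ → K F n := fun s t => symbol (Function.update (Function.update x i s) j t)
  have h1 : ∀ s t t', up s (t * t') = up s t + up s t' := fun s t t' => symbol_update_mul _ j t t'
  have h2 : ∀ s s' t, up (s * s') t = up s t + up s' t := fun s s' t => by
    simp only [up, Function.update_comm hij]
    exact symbol_update_mul _ i s s'
  have h0 : ∀ s, up s (-s) = 0 := fun s =>
    symbol_eq_zero_of_eq_neg _ hij (by simp [Function.update_of_ne hij])
  have hx : up a b = symbol x := by simp [up, a, b]
  have hs : up b a = symbol (x ∘ Equiv.swap i j) := by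
    simp only [up]
    congr 1
    funext l
    rcases eq_or_ne l j with rfl | hlj
    · simp [a]
    rcases eq_or_ne l i with rfl | hli
    · simp [b, hlj]
    simp [hlj, hli, Equiv.swap_apply_of_ne_of_ne hli hlj]
  have key : up (a * b) (-(a * b)) = up a b + up b a := by
    rw [h2, show -(a * b) = -a * b by rw [neg_mul], h1, show -a * b = -b * a by rw [neg_mul, neg_mul, mul_comm], h1, h0, h0, zero_add, zero_add]
  rw [h0, hx, hs] at key
  exact eq_neg_of_add_eq_zero_right key.symm

theorem symbol_perm {n : ℕ} (σ : Equiv.Perm (Fin n)) (x : Fin n → Fˣ) :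
    symbol (x ∘ σ) = (Equiv.Perm.sign σ : ℤ) • symbol x := by
  induction σ using Equiv.Perm.swap_induction_on generalizing x with
  | one => simp
  | swap_mul σ i j hij ih =>
    rw [Equiv.Perm.coe_mul, ← Function.comp_assoc, ih, symbol_swap x hij, Equiv.Perm.sign_mul,
      Equiv.Perm.sign_swap hij, smul_neg, Units.val_mul, Units.val_neg, Units.val_one, neg_one_mul,
      neg_smul]

theorem symbol_update_self_pair {n : ℕ} (x : Fin n → Fˣ) {i j : Fin n} (hij : i ≠ j)
    (h : x j = x i) : symbol x = symbol (Function.update x j (-1)) := by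
  have hx : x = Function.update x j (-x i * -1) := by
    rw [neg_mul_neg, mul_one, ← h, Function.update_eq_self]
  conv_lhs => rw [hx, symbol_update_mul]
  rw [symbol_eq_zero_of_eq_neg (Function.update x j (-x i)) hij
    (by simp [Function.update_of_ne hij]), zero_add]

/-- Prepending an entry. -/
noncomputable def consK {n : ℕ} (a : Fˣ) : K F n →+ K F (n + 1) :=
  MilK.lift ((sym F (n + 1)).curryLeft (Additive.ofMul a)) fun x ⟨i, j, hij, h⟩ => by
    rw [MultilinearMap.curryLeft_apply, sym_apply]
    exact symbol_eq_zero_of_isSteinberg _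
      ⟨i.succ, j.succ, Fin.succ_lt_succ_iff.mpr hij, by simpa using h⟩

@[simp]
theorem consK_symbol {n : ℕ} (a : Fˣ) (x : Fin n → Fˣ) :
    consK a (symbol x) = symbol (Fin.cons a x) := by
  rw [consK, lift_symbol, MultilinearMap.curryLeft_apply, sym_apply]
  congr 1

theorem consK_mul {n : ℕ} (a b : Fˣ) (z : K F n) : consK (a * b) z = consK a z + consK b z := by
  rw [← AddMonoidHom.add_apply]
  congr 1
  refine hom_ext fun x => ?_
  simp only [AddMonoidHom.add_apply, consK_symbol]
  rw [← Fin.update_cons_zero (α := fun _ => Fˣ) a x (a * b), symbol_update_mul,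
    Fin.update_cons_zero, Fin.update_cons_zero]

theorem consK_one {n : ℕ} (z : K F n) : consK (1 : Fˣ) z = 0 := by
  have := consK_mul (1 : Fˣ) 1 z
  rw [mul_one] at this
  simpa using this

/-- `consK` as a homomorphism in the entry. -/
noncomputable def consHom (n : ℕ) : Additive Fˣ →+ (K F n →+ K F (n + 1)) :=
  AddMonoidHom.mk' (fun a => consK a.toMul) fun a b => AddMonoidHom.ext fun z => consK_mul _ _ z

theorem consK_zpow {n : ℕ} (a : Fˣ) (k : ℤ) (z : K F n) : consK (a ^ k) z = k • consK a z := by
  have := map_zsmul (consHom (F := F) n) k (Additive.ofMul a)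
  exact DFunLike.congr_fun this z

theorem consK_comm {n : ℕ} (a b : Fˣ) (z : K F n) : consK a (consK b z) = -consK b (consK a z) := by
  rw [← AddMonoidHom.comp_apply, ← AddMonoidHom.comp_apply, ← AddMonoidHom.neg_apply]
  congr 1
  refine hom_ext fun x => ?_
  simp only [AddMonoidHom.comp_apply, AddMonoidHom.neg_apply, consK_symbol]
  rw [← symbol_swap _ (i := 0) (j := 1) (by simp)]
  congr 1
  funext i
  refine Fin.cases ?_ (fun i => Fin.cases ?_ (fun j => ?_) i) i
  · simp
  · simp
  · rw [Function.comp_apply, Equiv.swap_apply_of_ne_of_ne (Fin.succ_ne_zero _)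
      (by intro h; exact absurd (congrArg Fin.val h) (by simp))]
    simp

theorem consK_neg_self {n : ℕ} (a : Fˣ) (z : K F n) : consK a (consK (-a) z) = 0 := by
  rw [← AddMonoidHom.comp_apply, ← AddMonoidHom.zero_apply (M := K F n) z]
  congr 1
  refine hom_ext fun x => ?_
  simp only [AddMonoidHom.comp_apply, AddMonoidHom.zero_apply, consK_symbol]
  exact symbol_eq_zero_of_eq_neg _ (i := 0) (j := 1) (by simp) (by simp)

theorem consK_steinberg {n : ℕ} (a b : Fˣ) (h : (a : F) + b = 1) (z : K F n) :
    consK a (consK b z) = 0 := by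
  rw [← AddMonoidHom.comp_apply, ← AddMonoidHom.zero_apply (M := K F n) z]
  congr 1
  refine hom_ext fun x => ?_
  simp only [AddMonoidHom.comp_apply, AddMonoidHom.zero_apply, consK_symbol]
  exact symbol_eq_zero_of_add_eq_one _ (i := 0) (j := 1) (by simp)
    (by simpa using h)

theorem consK_self {n : ℕ} (a : Fˣ) (z : K F n) : consK a (consK a z) = consK a (consK (-1) z) := by
  have : a = -a * -1 := by rw [neg_mul_neg, mul_one]
  conv_lhs => arg 2; rw [this, consK_mul]
  rw [map_add, consK_neg_self, zero_add]

theorem cast_mul_eq_consK {n : ℕ} (a : Fˣ) (z : K F n) :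
    MilK.cast F (Nat.add_comm 1 n) (MilK.mul F 1 n (symbol ![a]) z) = consK a z := by
  rw [← AddEquiv.coe_toAddMonoidHom, ← AddMonoidHom.comp_apply]
  congr 1
  refine hom_ext fun x => ?_
  simp only [AddMonoidHom.comp_apply, AddEquiv.coe_toAddMonoidHom, mul_symbol_symbol, cast_symbol,
    consK_symbol]
  congr 1
  funext i
  refine Fin.cases ?_ (fun j => ?_) i
  · simp only [Function.comp_apply, Fin.cons_zero]
    rw [show Fin.cast (Nat.add_comm 1 n).symm (0 : Fin (n + 1)) = Fin.castAdd n (0 : Fin 1) from rfl,
      Fin.append_left]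
    rfl
  · simp only [Function.comp_apply, Fin.cons_succ]
    rw [show Fin.cast (Nat.add_comm 1 n).symm j.succ = Fin.natAdd 1 j from
      Fin.ext (by simp [add_comm]), Fin.append_right]

theorem symbol_pair_self (x : Fˣ) : (symbol ![x, x] : K F 2) = symbol ![x, -1] := by
  rw [symbol_update_self_pair ![x, x] (i := 0) (j := 1) (by simp) (by simp)]
  congr 1
  funext i
  fin_cases i <;> simp

end Groth.Agent.H23MilK
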