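import Groth.Agent.H23MilK.Basic

/-!
# Tame symbol and specialization maps of a discrete valuation ring
-/

set_option autoImplicit false

universe u v w

namespace Groth.Agent.H23MilK

open MilK

section Decomp

variable (A : Type u) [CommRing A] [IsDomain A] [IsDiscreteValuationRing A]
  (L : Type v) [Field L] [Algebra A L] [IsFractionRing A L] (ϖ : A) (hϖ : Irreducible ϖ)

/-- `(i, u) ↦ ϖ ^ i u`. -/
noncomputable def decHom : Multiplicative ℤ × Aˣ →* Lˣ :=
  MonoidHom.coprod (zpowersHom Lˣ (unitFrac A L ϖ hϖ.ne_zero)) (unitToFrac A L)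

theorem decHom_apply (i : ℤ) (u : Aˣ) :
    decHom A L ϖ hϖ (Multiplicative.ofAdd i, u) = unitFrac A L ϖ hϖ.ne_zero ^ i * unitToFrac A L u := rfl

omit [IsDiscreteValuationRing A] in
theorem coe_decHom_nat (n : ℕ) (u : Aˣ) :
    ((unitFrac A L ϖ hϖ.ne_zero ^ (n : ℤ) * unitToFrac A L u : Lˣ) : L) =
      algebraMap A L (ϖ ^ n * u) := by
  simp [unitToFrac]

include hϖ in
omit [IsDiscreteValuationRing A] in
theorem eq_zero_of_pow_mul (n : ℕ) (u : Aˣ) (h : IsUnit (ϖ ^ n * (u : A))) : n = 0 := by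
  by_contra hn
  exact hϖ.not_isUnit ((isUnit_pow_iff hn).mp (isUnit_of_mul_isUnit_left h))

theorem decHom_bijective : Function.Bijective (decHom A L ϖ hϖ) := by
  refine ⟨(injective_iff_map_eq_one _).mpr ?_, fun x => ?_⟩
  · rintro ⟨i, u⟩ h
    obtain ⟨i, rfl⟩ := Multiplicative.ofAdd.surjective i
    rw [decHom_apply] at h
    have hi : i = 0 := by
      rcases Int.eq_nat_or_neg i with ⟨n, rfl | rfl⟩
      · have h1 := congrArg Units.val h
        rw [coe_decHom_nat A L ϖ hϖ, Units.val_one, ← map_one (algebraMap A L)] at h1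
        have := IsFractionRing.injective A L h1
        simp [eq_zero_of_pow_mul A ϖ hϖ n u (this ▸ isUnit_one)]
      · have h2 : unitFrac A L ϖ hϖ.ne_zero ^ (n : ℤ) * unitToFrac A L u⁻¹ = 1 := by
          rw [map_inv]
          rw [mul_eq_one_iff_eq_inv, zpow_neg, inv_inj] at h
          rw [h, mul_inv_cancel]
        have h1 := congrArg Units.val h2
        rw [coe_decHom_nat A L ϖ hϖ, Units.val_one, ← map_one (algebraMap A L)] at h1
        have := IsFractionRing.injective A L h1
        simp [eq_zero_of_pow_mul A ϖ hϖ n u⁻¹ (this ▸ isUnit_one)]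
    subst hi
    rw [zpow_zero, one_mul] at h
    have hu : u = 1 := Units.ext (IsFractionRing.injective A L (by
      have := congrArg Units.val h
      simpa [unitToFrac] using this))
    rw [hu]; rfl
  · obtain ⟨a, b, hb, hx⟩ := IsFractionRing.div_surjective A (K := L) (x : L)
    have hb0 : b ≠ 0 := nonZeroDivisors.ne_zero hb
    have ha0 : a ≠ 0 := fun h => x.ne_zero (by rw [← hx, h, map_zero, zero_div])
    obtain ⟨m, u, rfl⟩ := IsDiscreteValuationRing.eq_unit_mul_pow_irreducible ha0 hϖ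
    obtain ⟨k, v, rfl⟩ := IsDiscreteValuationRing.eq_unit_mul_pow_irreducible hb0 hϖ
    refine ⟨(Multiplicative.ofAdd ((m : ℤ) - k), u * v⁻¹), ?_⟩
    rw [decHom_apply]
    refine Units.ext ?_
    rw [Units.val_mul, Units.val_zpow_eq_zpow_val, coe_unitFrac, ← hx]
    simp only [map_mul, map_pow, map_inv, unitToFrac, Units.val_mul, Units.val_inv_eq_inv_val,
      Units.coe_map, MonoidHom.coe_coe]
    rw [zpow_sub₀ (show algebraMap A L ϖ ≠ 0 from (unitFrac A L ϖ hϖ.ne_zero).ne_zero), zpow_natCast,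
      zpow_natCast]
    field_simp

/-- The inverse decomposition. -/
noncomputable def dec : Lˣ ≃* Multiplicative ℤ × Aˣ :=
  (MulEquiv.ofBijective (decHom A L ϖ hϖ) (decHom_bijective A L ϖ hϖ)).symm

/-- The exponent. -/
noncomputable def ordHom : Additive Lˣ →+ ℤ :=
  AddMonoidHom.mk' (fun x => ((dec A L ϖ hϖ x.toMul).1).toAdd) fun x y => by
    simp [map_mul]

/-- The residue of the unit part. -/
noncomputable def resHom : Lˣ →* (IsLocalRing.ResidueField A)ˣ :=
  (unitResidue A).comp ((MonoidHom.snd _ _).comp (dec A L ϖ hϖ).toMonoidHom)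

theorem dec_decHom (i : ℤ) (u : Aˣ) :
    dec A L ϖ hϖ (unitFrac A L ϖ hϖ.ne_zero ^ i * unitToFrac A L u) = (Multiplicative.ofAdd i, u) := by
  rw [← decHom_apply A L ϖ hϖ]
  exact (MulEquiv.ofBijective _ (decHom_bijective A L ϖ hϖ)).symm_apply_apply _

@[simp]
theorem ordHom_mk (i : ℤ) (u : Aˣ) :
    ordHom A L ϖ hϖ (Additive.ofMul (unitFrac A L ϖ hϖ.ne_zero ^ i * unitToFrac A L u)) = i := by
  simp [ordHom, dec_decHom A L ϖ hϖ i u]

@[simp]
theorem resHom_mk (i : ℤ) (u : Aˣ) :
    resHom A L ϖ hϖ (unitFrac A L ϖ hϖ.ne_zero ^ i * unitToFrac A L u) = unitResidue A u := by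
  simp [resHom, dec_decHom A L ϖ hϖ i u]

theorem exists_dec (x : Lˣ) :
    ∃ (i : ℤ) (u : Aˣ), x = unitFrac A L ϖ hϖ.ne_zero ^ i * unitToFrac A L u := by
  obtain ⟨⟨i, u⟩, h⟩ := (decHom_bijective A L ϖ hϖ).2 x
  exact ⟨i.toAdd, u, h.symm⟩

theorem resHom_unit (u : Aˣ) : resHom A L ϖ hϖ (unitToFrac A L u) = unitResidue A u := by
  have := resHom_mk A L ϖ hϖ 0 u
  rwa [zpow_zero, one_mul] at this

theorem ordHom_unit (u : Aˣ) : ordHom A L ϖ hϖ (Additive.ofMul (unitToFrac A L u)) = 0 := by
  have := ordHom_mk A L ϖ hϖ 0 u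
  rwa [zpow_zero, one_mul] at this

include hϖ in
theorem residue_pow_mul (n : ℕ) (u : Aˣ) :
    IsLocalRing.residue A (ϖ ^ n * u) =
      if n = 0 then (unitResidue A u : IsLocalRing.ResidueField A) else 0 := by
  split_ifs with h
  · simp [h, unitResidue]
  · rw [IsLocalRing.residue_eq_zero_iff]
    exact Ideal.mul_mem_right _ _ (Ideal.pow_mem_of_mem _ hϖ.not_isUnit n (Nat.pos_of_ne_zero h))

theorem steinberg_neg {i j : ℤ} {u v : Aˣ} (hi : i < 0) (hij : i ≤ j)
    (h : ((unitFrac A L ϖ hϖ.ne_zero ^ i * unitToFrac A L u : Lˣ) : L) +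
      ((unitFrac A L ϖ hϖ.ne_zero ^ j * unitToFrac A L v : Lˣ) : L) = 1) :
    i = j ∧ (unitResidue A v : IsLocalRing.ResidueField A) = -(unitResidue A u : _) := by
  obtain ⟨n, rfl⟩ : ∃ n : ℕ, i = -(n : ℤ) := ⟨(-i).toNat, by omega⟩
  obtain ⟨m, rfl⟩ : ∃ m : ℕ, j = -(n : ℤ) + m := ⟨(j + n).toNat, by omega⟩
  have hne : ((unitFrac A L ϖ hϖ.ne_zero ^ (n : ℤ) : Lˣ) : L) ≠ 0 := Units.ne_zero _
  have h2 := congrArg (((unitFrac A L ϖ hϖ.ne_zero ^ (n : ℤ) : Lˣ) : L) * ·) h
  simp only [mul_add, mul_one, ← Units.val_mul, ← mul_assoc, ← zpow_add, add_neg_cancel,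
    zpow_zero, one_mul] at h2
  rw [show (n : ℤ) + (-(n : ℤ) + m) = (m : ℤ) by ring, coe_decHom_nat A L ϖ hϖ, zpow_natCast,
    Units.val_pow_eq_pow_val, coe_unitFrac, ← map_pow] at h2
  have h3 : (u : A) + ϖ ^ m * v = ϖ ^ n := IsFractionRing.injective A L (by
    rw [map_add]
    exact h2)
  have hn : n ≠ 0 := by omega
  have h4 := congrArg (IsLocalRing.residue A) h3
  have hnr := residue_pow_mul A ϖ hϖ n 1
  rw [Units.val_one, mul_one, if_neg hn] at hnr
  rw [map_add, residue_pow_mul A ϖ hϖ m v, hnr] at h4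
  split_ifs at h4 with hm
  · exact ⟨by omega, eq_neg_of_add_eq_zero_right h4⟩
  · exfalso
    rw [add_zero] at h4
    exact (unitResidue A u).ne_zero h4

theorem steinberg_cases {i j : ℤ} {u v : Aˣ}
    (h : ((unitFrac A L ϖ hϖ.ne_zero ^ i * unitToFrac A L u : Lˣ) : L) +
      ((unitFrac A L ϖ hϖ.ne_zero ^ j * unitToFrac A L v : Lˣ) : L) = 1) :
    (i = 0 ∧ j = 0 ∧ (unitResidue A u : IsLocalRing.ResidueField A) + unitResidue A v = 1) ∨
      (j = 0 ∧ unitResidue A v = 1) ∨ (i = 0 ∧ unitResidue A u = 1) ∨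
      (i = j ∧ unitResidue A v = -unitResidue A u) := by
  by_cases hneg : i < 0 ∨ j < 0
  · refine Or.inr (Or.inr (Or.inr ?_))
    rcases le_total i j with hij | hij
    · obtain ⟨h1, h2⟩ := steinberg_neg A L ϖ hϖ (by omega) hij h
      exact ⟨h1, Units.ext h2⟩
    · obtain ⟨h1, h2⟩ := steinberg_neg A L ϖ hϖ (by omega) hij (by rwa [add_comm])
      exact ⟨h1.symm, Units.ext (by rw [Units.val_neg, h2, neg_neg])⟩
  · obtain ⟨n, rfl⟩ : ∃ n : ℕ, i = n := ⟨i.toNat, by omega⟩
    obtain ⟨m, rfl⟩ : ∃ m : ℕ, j = m := ⟨j.toNat, by omega⟩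
    rw [coe_decHom_nat A L ϖ hϖ, coe_decHom_nat A L ϖ hϖ, ← map_add, ← map_one (algebraMap A L)] at h
    have h4 := congrArg (IsLocalRing.residue A) (IsFractionRing.injective A L h)
    rw [map_add, map_one, residue_pow_mul A ϖ hϖ n u, residue_pow_mul A ϖ hϖ m v] at h4
    split_ifs at h4 with hn hm hm
    · exact Or.inl ⟨by omega, by omega, h4⟩
    · rw [add_zero] at h4
      exact Or.inr (Or.inr (Or.inl ⟨by omega, Units.ext h4⟩))
    · rw [zero_add] at h4
      exact Or.inr (Or.inl ⟨by omega, Units.ext h4⟩)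
    · rw [add_zero] at h4
      exact absurd h4 zero_ne_one

end Decomp

section Maps

variable {A : Type u} [CommRing A] [IsDomain A] [IsDiscreteValuationRing A]
  {L : Type v} [Field L] [Algebra A L] [IsFractionRing A L] {ϖ : A} (hϖ : Irreducible ϖ)

local notation "κ" => IsLocalRing.ResidueField A

theorem unitResidue_surjective : Function.Surjective (unitResidue A) := fun x => by
  obtain ⟨a, ha⟩ := IsLocalRing.residue_surjective (x : κ)
  have : IsUnit a := by
    by_contra h
    exact x.ne_zero (by rw [← ha, IsLocalRing.residue_eq_zero_iff]; exact h)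
  exact ⟨this.unit, Units.ext ha⟩

/-- Specialization on tuples. -/
noncomputable def specM (n : ℕ) : MultilinearMap ℤ (fun _ : Fin n => Additive Lˣ) (K κ n) :=
  (sym κ n).compLinearMap fun _ => (MonoidHom.toAdditive (resHom A L ϖ hϖ)).toIntLinearMap

theorem specM_apply {n : ℕ} (x : Fin n → Additive Lˣ) :
    specM hϖ n x = symbol fun i => resHom A L ϖ hϖ (x i).toMul := rfl

theorem specM_steinberg {n : ℕ} (x : Fin n → Lˣ) (h : IsSteinberg L x) :
    specM hϖ n (fun i => Additive.ofMul (x i)) = 0 := by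
  obtain ⟨i, j, hij, h⟩ := h
  rw [specM_apply]
  obtain ⟨a, u, hu⟩ := exists_dec A L ϖ hϖ (x i)
  obtain ⟨b, v, hv⟩ := exists_dec A L ϖ hϖ (x j)
  rw [hu, hv] at h
  rcases steinberg_cases A L ϖ hϖ h with ⟨-, -, h1⟩ | ⟨-, h1⟩ | ⟨-, h1⟩ | ⟨-, h1⟩
  · exact symbol_eq_zero_of_add_eq_one _ hij.ne (by simpa [hu, hv] using h1)
  · exact symbol_eq_zero_of_eq_one _ j (by simpa [hv] using h1)
  · exact symbol_eq_zero_of_eq_one _ i (by simpa [hu] using h1)
  · exact symbol_eq_zero_of_eq_neg _ hij.ne (by simpa [hu, hv] using h1)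

/-- The specialization map. -/
noncomputable def spec (n : ℕ) : K L n →+ K κ n := MilK.lift (specM hϖ n) (specM_steinberg hϖ)

theorem spec_symbol {n : ℕ} (x : Fin n → Lˣ) :
    spec (A := A) (L := L) hϖ n (symbol x) = symbol fun i => resHom A L ϖ hϖ (x i) := by
  rw [spec, lift_symbol]; rfl

theorem isSpecMap_spec (n : ℕ) : IsSpecMap A L ϖ hϖ n (spec hϖ n) := by
  intro e u
  rw [spec_symbol]
  simp

/-- The twisted residue `(-1) ^ ord / res`. -/
noncomputable def twist : Lˣ →* κˣ :=
  ((zpowersHom κˣ (-1)).comp (AddMonoidHom.toMultiplicativeRight (ordHom A L ϖ hϖ))) * (resHom A L ϖ hϖ)⁻¹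

theorem twist_mk (i : ℤ) (u : Aˣ) :
    twist (L := L) hϖ (unitFrac A L ϖ hϖ.ne_zero ^ i * unitToFrac A L u) =
      (-1) ^ i * (unitResidue A u)⁻¹ := by
  have h1 := ordHom_mk A L ϖ hϖ i u
  have h2 := resHom_mk A L ϖ hϖ i u
  simp only [twist, MonoidHom.mul_apply, MonoidHom.comp_apply, MonoidHom.inv_apply, h2,
    AddMonoidHom.coe_toMultiplicativeRight, Function.comp_apply, h1, zpowersHom_apply, toAdd_ofAdd]

/-- Tame symbol on tuples. -/
noncomputable def tameM : ∀ n : ℕ, MultilinearMap ℤ (fun _ : Fin (n + 1) => Additive Lˣ) (K κ n)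
  | 0 => LinearMap.uncurryLeft (M := fun _ : Fin 1 => Additive Lˣ)
      ((ordHom A L ϖ hϖ).toIntLinearMap.smulRight (specM hϖ 0))
  | n + 1 => LinearMap.uncurryLeft (M := fun _ : Fin (n + 2) => Additive Lˣ)
      ((ordHom A L ϖ hϖ).toIntLinearMap.smulRight (specM hϖ (n + 1)) +
        (AddMonoidHom.mk' (fun a =>
          (consK (n := n) (twist hϖ (Additive.toMul a))).toIntLinearMap.compMultilinearMap (tameM n))
          fun a b => MultilinearMap.ext fun x => by
            simp [consK_mul]).toIntLinearMap)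

theorem tameM_zero (x : Fin 1 → Additive Lˣ) :
    tameM hϖ 0 x = ordHom A L ϖ hϖ (x 0) • specM hϖ 0 (Fin.tail x) := by
  simp [tameM]

theorem tameM_succ {n : ℕ} (x : Fin (n + 2) → Additive Lˣ) :
    tameM hϖ (n + 1) x = ordHom A L ϖ hϖ (x 0) • specM hϖ (n + 1) (Fin.tail x) +
      consK (twist hϖ (x 0).toMul) (tameM hϖ n (Fin.tail x)) := by
  simp [tameM]

theorem specM_cons {n : ℕ} (x : Fin (n + 1) → Additive Lˣ) :
    specM hϖ (n + 1) x = consK (resHom A L ϖ hϖ (x 0).toMul) (specM hϖ n (Fin.tail x)) := by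
  rw [specM_apply, specM_apply, consK_symbol]
  congr 1
  funext i
  refine Fin.cases ?_ (fun j => ?_) i <;> simp [Fin.tail]

theorem tameM_two {x : Fin 2 → Additive Lˣ} :
    tameM hϖ 1 x = consK (resHom A L ϖ hϖ (x 1).toMul ^ ordHom A L ϖ hϖ (x 0) *
      twist hϖ (x 0).toMul ^ ordHom A L ϖ hϖ (x 1)) (specM hϖ 0 (Fin.tail (Fin.tail x))) := by
  rw [tameM_succ, tameM_zero, specM_cons, consK_mul, consK_zpow, consK_zpow, map_zsmul]
  rfl

theorem tameM_three {n : ℕ} {x : Fin (n + 3) → Additive Lˣ} :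
    tameM hϖ (n + 2) x = consK (resHom A L ϖ hϖ (x 1).toMul ^ ordHom A L ϖ hϖ (x 0) *
      twist hϖ (x 0).toMul ^ ordHom A L ϖ hϖ (x 1)) (specM hϖ (n + 1) (Fin.tail (Fin.tail x))) +
      consK (twist hϖ (x 0).toMul) (consK (twist hϖ (x 1).toMul) (tameM hϖ n (Fin.tail (Fin.tail x)))) := by
  rw [tameM_succ, tameM_succ, specM_cons, consK_mul, consK_zpow, consK_zpow, map_add, map_zsmul,
    ← add_assoc]
  rfl

theorem twist_anti (a b : Lˣ) :
    resHom A L ϖ hϖ b ^ ordHom A L ϖ hϖ (Additive.ofMul a) *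
        twist hϖ a ^ ordHom A L ϖ hϖ (Additive.ofMul b) *
      (resHom A L ϖ hϖ a ^ ordHom A L ϖ hϖ (Additive.ofMul b) *
        twist hϖ b ^ ordHom A L ϖ hϖ (Additive.ofMul a)) = 1 := by
  obtain ⟨i, u, rfl⟩ := exists_dec A L ϖ hϖ a
  obtain ⟨j, v, rfl⟩ := exists_dec A L ϖ hϖ b
  rw [resHom_mk, resHom_mk, ordHom_mk, ordHom_mk, twist_mk, twist_mk, mul_zpow, mul_zpow, inv_zpow,
    inv_zpow, ← zpow_mul, ← zpow_mul, mul_comm j i]
  have : ((-1 : κˣ) ^ (i * j)) * ((-1 : κˣ) ^ (i * j)) = 1 := by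
    rw [← mul_zpow, neg_mul_neg, one_mul, one_zpow]
  calc _ = ((-1 : κˣ) ^ (i * j)) * ((-1 : κˣ) ^ (i * j)) *
        ((unitResidue A v ^ i) * (unitResidue A v ^ i)⁻¹) *
        ((unitResidue A u ^ j) * (unitResidue A u ^ j)⁻¹) := by ac_rfl
    _ = 1 := by rw [this, mul_inv_cancel, mul_inv_cancel, one_mul, one_mul]

theorem twist_steinberg (a b : Lˣ) (h : (a : L) + b = 1) :
    resHom A L ϖ hϖ b ^ ordHom A L ϖ hϖ (Additive.ofMul a) *
        twist hϖ a ^ ordHom A L ϖ hϖ (Additive.ofMul b) = 1 ∧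
      ∀ (n : ℕ) (z : K κ n), consK (twist hϖ a) (consK (twist hϖ b) z) = 0 := by
  obtain ⟨i, u, rfl⟩ := exists_dec A L ϖ hϖ a
  obtain ⟨j, v, rfl⟩ := exists_dec A L ϖ hϖ b
  rw [resHom_mk, ordHom_mk, ordHom_mk, twist_mk, twist_mk]
  rcases steinberg_cases A L ϖ hϖ h with ⟨rfl, rfl, h1⟩ | ⟨rfl, h1⟩ | ⟨rfl, h1⟩ | ⟨rfl, h1⟩
  · refine ⟨by simp, fun n z => ?_⟩
    rw [zpow_zero, one_mul, one_mul, ← zpow_neg_one (unitResidue A v), consK_zpow, map_zsmul,
      ← zpow_neg_one (unitResidue A u), consK_zpow, consK_steinberg _ _ h1, zsmul_zero, zsmul_zero]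
  · exact ⟨by simp [h1], fun n z => by simp [h1, consK_one]⟩
  · exact ⟨by simp [h1], fun n z => by simp [h1, consK_one]⟩
  · refine ⟨?_, fun n z => ?_⟩
    · rw [h1, mul_zpow, inv_zpow, ← zpow_mul, ← neg_one_mul (unitResidue A u), mul_zpow]
      have he : ((-1 : κˣ) ^ i) * ((-1 : κˣ) ^ (i * i)) = 1 := by
        rw [← zpow_add, show i + i * i = i * (i + 1) by ring]
        exact (Int.even_mul_succ_self i).neg_one_zpow
      calc _ = ((-1 : κˣ) ^ i * (-1 : κˣ) ^ (i * i)) *
            ((unitResidue A u ^ i) * (unitResidue A u ^ i)⁻¹) := by ac_rfl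
        _ = 1 := by rw [he, mul_inv_cancel, one_mul]
    · rw [h1, inv_neg, mul_neg]
      exact consK_neg_self _ _

theorem tameM_swap_zero {n : ℕ} (x : Fin (n + 2) → Additive Lˣ) :
    tameM hϖ (n + 1) (x ∘ Equiv.swap 0 1) = -tameM hϖ (n + 1) x := by
  have ht : Fin.tail (Fin.tail (x ∘ Equiv.swap (0 : Fin (n + 2)) 1)) = Fin.tail (Fin.tail x) := by
    funext l
    simp only [Fin.tail, Function.comp_apply]
    rw [Equiv.swap_apply_of_ne_of_ne (Fin.succ_ne_zero _)
      (by intro h; exact absurd (congrArg Fin.val h) (by simp))]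
  have e0 : (x ∘ Equiv.swap (0 : Fin (n + 2)) 1) 0 = x 1 := by simp
  have e1 : (x ∘ Equiv.swap (0 : Fin (n + 2)) 1) 1 = x 0 := by simp
  have hanti := twist_anti hϖ (x 1).toMul (x 0).toMul
  simp only [ofMul_toMul] at hanti
  cases n with
  | zero =>
    rw [tameM_two, tameM_two, e0, e1, ht, eq_neg_iff_add_eq_zero, ← consK_mul, hanti, consK_one]
  | succ n =>
    rw [tameM_three, tameM_three, e0, e1, ht, eq_neg_iff_add_eq_zero,
      show ∀ a b c d : K κ (n + 2), a + b + (c + d) = (a + c) + (b + d) by intros; abel,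
      ← consK_mul, hanti, consK_one, zero_add, consK_comm, neg_add_cancel]

theorem tameM_swap_adj : ∀ (n : ℕ) (i : Fin (n + 1)) (x : Fin (n + 2) → Additive Lˣ),
    tameM hϖ (n + 1) (x ∘ Equiv.swap i.castSucc i.succ) = -tameM hϖ (n + 1) x := by
  intro n
  induction n with
  | zero =>
    intro i x
    obtain rfl : i = 0 := Fin.fin_one_eq_zero i
    exact tameM_swap_zero hϖ x
  | succ n ih =>
    intro i x
    refine Fin.cases (motive := fun i : Fin (n + 2) => tameM hϖ (n + 1 + 1)
      (x ∘ Equiv.swap i.castSucc i.succ) = -tameM hϖ (n + 1 + 1) x) ?_ (fun j => ?_) i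
    · exact tameM_swap_zero hϖ x
    · have ht : Fin.tail (x ∘ Equiv.swap (Fin.castSucc j.succ) j.succ.succ) =
          Fin.tail x ∘ Equiv.swap j.castSucc j.succ := by
        funext l
        simp only [Fin.tail, Function.comp_apply, ← Fin.succ_castSucc]
        congr 1
        exact ((Fin.succ_injective _).map_swap _ _ _).symm
      have h0 : (x ∘ Equiv.swap (Fin.castSucc j.succ) j.succ.succ) 0 = x 0 := by
        rw [Function.comp_apply, Equiv.swap_apply_of_ne_of_ne]
        · rw [← Fin.succ_castSucc]; exact (Fin.succ_ne_zero _).symm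
        · exact (Fin.succ_ne_zero _).symm
      have hs : specM hϖ (n + 2) (Fin.tail x ∘ Equiv.swap j.castSucc j.succ) =
          -specM hϖ (n + 2) (Fin.tail x) := by
        rw [specM_apply, specM_apply]
        exact symbol_swap (fun l => resHom A L ϖ hϖ (Fin.tail x l).toMul) (Fin.castSucc_lt_succ (i := j)).ne
      rw [tameM_succ hϖ (x ∘ Equiv.swap (Fin.castSucc j.succ) j.succ.succ), tameM_succ hϖ x, ht, h0,
        hs, ih, smul_neg, map_neg, ← neg_add]

theorem tameM_perm {n : ℕ} (σ : Equiv.Perm (Fin (n + 2))) (x : Fin (n + 2) → Additive Lˣ)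
    (h : tameM hϖ (n + 1) (x ∘ σ) = 0) : tameM hϖ (n + 1) x = 0 := by
  have hσ : σ ∈ Submonoid.closure (Set.range fun i : Fin (n + 1) => Equiv.swap i.castSucc i.succ) := by
    rw [Equiv.Perm.mclosure_swap_castSucc_succ]; trivial
  induction hσ using Submonoid.closure_induction generalizing x with
  | mem τ hτ =>
    obtain ⟨i, rfl⟩ := hτ
    rw [tameM_swap_adj, neg_eq_zero] at h
    exact h
  | one => simpa using h
  | mul a b _ _ ha hb => exact ha x (hb _ (by rwa [Function.comp_assoc, ← Equiv.Perm.coe_mul]))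

theorem tameM_steinberg {n : ℕ} (x : Fin (n + 1) → Lˣ) (h : IsSteinberg L x) :
    tameM hϖ n (fun i => Additive.ofMul (x i)) = 0 := by
  obtain ⟨i, j, hij, h⟩ := h
  cases n with
  | zero => exact absurd hij (by simp [Fin.fin_one_eq_zero i, Fin.fin_one_eq_zero j])
  | succ n =>
    let σ : Equiv.Perm (Fin (n + 2)) := Equiv.swap 0 i * Equiv.swap 1 (Equiv.swap 0 i j)
    have hne : Equiv.swap 0 i j ≠ 0 := by
      intro h0
      rw [Equiv.swap_apply_eq_iff, Equiv.swap_apply_left] at h0
      exact hij.ne h0.symm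
    have s0 : σ 0 = i := by
      simp [σ, Equiv.swap_apply_of_ne_of_ne (show (0 : Fin (n + 2)) ≠ 1 by simp) hne.symm]
    have s1 : σ 1 = j := by simp [σ]
    refine tameM_perm hϖ σ _ ?_
    obtain ⟨h1, h2⟩ := twist_steinberg hϖ (x i) (x j) h
    cases n with
    | zero =>
      rw [tameM_two]
      simp only [Function.comp_apply, s0, s1, toMul_ofMul, h1, consK_one]
    | succ n =>
      rw [tameM_three]
      simp only [Function.comp_apply, s0, s1, toMul_ofMul, h1, h2, consK_one, add_zero]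

/-- The tame symbol. -/
noncomputable def tame (n : ℕ) : K L (n + 1) →+ K κ n :=
  MilK.lift (tameM hϖ n) (tameM_steinberg hϖ)

theorem tame_symbol {n : ℕ} (x : Fin (n + 1) → Lˣ) :
    tame (A := A) hϖ n (symbol x) = tameM hϖ n (fun i => Additive.ofMul (x i)) := lift_symbol _ _ _

theorem tame_consK_zero (a : Lˣ) (z : K L 0) :
    tame (A := A) hϖ 0 (consK a z) = ordHom A L ϖ hϖ (Additive.ofMul a) • spec hϖ 0 z := by
  have hh : (tame (A := A) hϖ 0).comp (consK a) = ordHom A L ϖ hϖ (Additive.ofMul a) • spec hϖ 0 :=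
    hom_ext fun x => by
      rw [AddMonoidHom.comp_apply, consK_symbol, tame_symbol, tameM_zero, AddMonoidHom.smul_apply,
        spec_symbol, specM_apply]
      rfl
  exact DFunLike.congr_fun hh z

theorem tame_consK {n : ℕ} (a : Lˣ) (z : K L (n + 1)) :
    tame (A := A) hϖ (n + 1) (consK a z) = ordHom A L ϖ hϖ (Additive.ofMul a) • spec hϖ (n + 1) z +
      consK (twist hϖ a) (tame hϖ n z) := by
  have hh : (tame (A := A) hϖ (n + 1)).comp (consK a) =
      ordHom A L ϖ hϖ (Additive.ofMul a) • spec hϖ (n + 1) + (consK (twist hϖ a)).comp (tame hϖ n) :=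
    hom_ext fun x => by
      rw [AddMonoidHom.comp_apply, consK_symbol, tame_symbol, tameM_succ, AddMonoidHom.add_apply,
        AddMonoidHom.comp_apply, tame_symbol, AddMonoidHom.smul_apply, spec_symbol, specM_apply]
      rfl
  exact DFunLike.congr_fun hh z

theorem spec_consK {n : ℕ} (a : Lˣ) (z : K L n) :
    spec (A := A) hϖ (n + 1) (consK a z) = consK (resHom A L ϖ hϖ a) (spec hϖ n z) := by
  have hh : (spec (A := A) hϖ (n + 1)).comp (consK a) = (consK (resHom A L ϖ hϖ a)).comp (spec hϖ n) :=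
    hom_ext fun x => by
      rw [AddMonoidHom.comp_apply, AddMonoidHom.comp_apply, consK_symbol, spec_symbol, spec_symbol,
        consK_symbol]
      congr 1
      funext i
      refine Fin.cases ?_ (fun j => ?_) i <;> simp
  exact DFunLike.congr_fun hh z

theorem symbol_units_eq_consK {n : ℕ} (u : Fin (n + 1) → Aˣ) :
    symbol (fun i => unitToFrac A L (u i)) =
      consK (unitToFrac A L (u 0)) (symbol fun i => unitToFrac A L (Fin.tail u i)) := by
  rw [consK_symbol]
  congr 1
  funext i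
  refine Fin.cases ?_ (fun j => ?_) i <;> simp [Fin.tail]

theorem tame_units {n : ℕ} (u : Fin (n + 1) → Aˣ) :
    tame (A := A) (L := L) hϖ n (symbol fun i => unitToFrac A L (u i)) = 0 := by
  induction n with
  | zero => rw [symbol_units_eq_consK, tame_consK_zero, ordHom_unit, zero_zsmul]
  | succ n ih => rw [symbol_units_eq_consK, tame_consK, ordHom_unit, zero_zsmul, ih, map_zero, add_zero]

theorem spec_units {n : ℕ} (u : Fin n → Aˣ) :
    spec (A := A) (L := L) hϖ n (symbol fun i => unitToFrac A L (u i)) = symbol fun i => unitResidue A (u i) := by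
  rw [spec_symbol]
  simp only [resHom_unit]

theorem cons_symbol_eq {n : ℕ} (a : Lˣ) (f : Fin n → Lˣ) : symbol (Fin.cons a f) = consK a (symbol f) :=
  (consK_symbol a f).symm

theorem isTameSymbol_tame (n : ℕ) : IsTameSymbol A L n (tame hϖ n) := by
  intro π hπ u
  obtain ⟨w, hw⟩ := (IsDiscreteValuationRing.associated_of_irreducible A hϖ hπ)
  have hfrac : unitFrac A L π hπ.ne_zero =
      unitFrac A L ϖ hϖ.ne_zero ^ (1 : ℤ) * unitToFrac A L w := by
    rw [zpow_one]
    ext
    simp [unitToFrac, ← hw]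
  rw [cons_symbol_eq]
  cases n with
  | zero => rw [tame_consK_zero, hfrac, ordHom_mk, one_zsmul, spec_units]
  | succ n => rw [tame_consK, hfrac, ordHom_mk, one_zsmul, spec_units, tame_units, map_zero, add_zero]

/-- The subgroup generated by symbols of units. -/
def unitSub (A : Type u) [CommRing A] (L : Type v) [Field L] [Algebra A L] (n : ℕ) :
    AddSubgroup (K L n) :=
  AddSubgroup.closure {z | ∃ u : Fin n → Aˣ, z = symbol fun i => unitToFrac A L (u i)}

theorem consK_mem_unitSub {n : ℕ} (u : Aˣ) {z : K L n} (hz : z ∈ unitSub A L n) :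
    consK (unitToFrac A L u) z ∈ unitSub A L (n + 1) := by
  refine (AddSubgroup.closure_le ((unitSub A L (n + 1)).comap (consK (unitToFrac A L u)))).mpr ?_ hz
  rintro _ ⟨w, rfl⟩
  refine AddSubgroup.subset_closure ⟨Fin.cons u w, ?_⟩
  rw [consK_symbol]
  congr 1
  funext i
  refine Fin.cases ?_ (fun j => ?_) i <;> simp

theorem mem_of_generators : ∀ {n : ℕ} (H : AddSubgroup (K L (n + 1))),
    (∀ u : Fin (n + 1) → Aˣ, symbol (fun i => unitToFrac A L (u i)) ∈ H) →
    (∀ u : Fin n → Aˣ, consK (unitFrac A L ϖ hϖ.ne_zero) (symbol fun i => unitToFrac A L (u i)) ∈ H) →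
    ∀ z, z ∈ H := by
  intro n
  induction n with
  | zero =>
    intro H hU hP
    refine mem_of_symbol fun x => ?_
    obtain ⟨i, u, hu⟩ := exists_dec A L ϖ hϖ (x 0)
    rw [show x = Fin.cons (x 0) (fun j => unitToFrac A L ((Fin.elim0 : Fin 0 → Aˣ) j)) by
      funext j; refine Fin.cases ?_ (fun l => l.elim0) j; simp]
    rw [cons_symbol_eq, hu, consK_mul, consK_zpow]
    refine H.add_mem (H.zsmul_mem (hP _) _) ?_
    have := hU fun _ => u
    rwa [symbol_units_eq_consK (fun _ : Fin 1 => u), show (Fin.tail fun _ : Fin 1 => u) = Fin.elim0 from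
      funext fun j => j.elim0] at this
  | succ n ih =>
    intro H hU hP
    refine mem_of_symbol fun x => ?_
    rw [← Fin.cons_self_tail x, cons_symbol_eq]
    obtain ⟨i, u, hu⟩ := exists_dec A L ϖ hϖ (x 0)
    rw [hu, consK_mul, consK_zpow]
    refine H.add_mem (H.zsmul_mem ?_ _) ?_
    · refine ih (H.comap (consK (unitFrac A L ϖ hϖ.ne_zero))) (fun w => hP w) (fun w => ?_) _
      rw [AddSubgroup.mem_comap, consK_self,
        show (-1 : Lˣ) = unitToFrac A L (-1) by ext; simp [unitToFrac], consK_symbol (unitToFrac A L (-1))]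
      have := hP (Fin.cons (-1) w)
      convert this using 2
      congr 1
      funext j
      refine Fin.cases ?_ (fun l => ?_) j <;> simp
    · refine ih (H.comap (consK (unitToFrac A L u))) (fun w => ?_) (fun w => ?_) _
      · have := hU (Fin.cons u w)
        rw [AddSubgroup.mem_comap, consK_symbol]
        convert this using 2
        funext j
        refine Fin.cases ?_ (fun l => ?_) j <;> simp
      · rw [AddSubgroup.mem_comap, consK_comm, consK_symbol (unitToFrac A L u)]
        refine H.neg_mem ?_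
        have := hP (Fin.cons u w)
        convert this using 2
        congr 1
        funext j
        refine Fin.cases ?_ (fun l => ?_) j <;> simp

include hϖ in
theorem tame_vanishes {n : ℕ} {d : K L (n + 1) →+ K κ n} (hd : IsTameSymbol A L n d)
    (u : Fin (n + 1) → Aˣ) : d (symbol fun i => unitToFrac A L (u i)) = 0 := by
  have hirr : Irreducible (ϖ * (u 0 : A)) :=
    (irreducible_mul_units (u 0)).mpr hϖ
  have h1 := hd ϖ hϖ (Fin.tail u)
  have h2 := hd (ϖ * (u 0 : A)) hirr (Fin.tail u)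
  have hf : unitFrac A L (ϖ * (u 0 : A)) hirr.ne_zero =
      unitFrac A L ϖ hϖ.ne_zero * unitToFrac A L (u 0) := by
    ext; simp [unitToFrac]
  rw [cons_symbol_eq] at h1 h2
  rw [hf, consK_mul, map_add, h1, add_eq_left] at h2
  rwa [symbol_units_eq_consK]

include hϖ in
theorem tame_unique {n : ℕ} {d d' : K L (n + 1) →+ K κ n} (hd : IsTameSymbol A L n d)
    (hd' : IsTameSymbol A L n d') : d = d' := by
  refine AddMonoidHom.ext fun z => sub_eq_zero.mp ?_
  refine mem_of_generators hϖ (d - d').ker (fun u => ?_) (fun u => ?_) z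
  · simp [AddMonoidHom.mem_ker, tame_vanishes hϖ hd u, tame_vanishes hϖ hd' u]
  · have h1 := hd ϖ hϖ u
    have h2 := hd' ϖ hϖ u
    rw [cons_symbol_eq] at h1 h2
    simp [AddMonoidHom.mem_ker, -consK_symbol, h1, h2]

theorem spec_unique {n : ℕ} {s : K L n →+ K κ n} (hs : IsSpecMap A L ϖ hϖ n s) : s = spec hϖ n := by
  refine hom_ext fun x => ?_
  choose e u hx using fun i => exists_dec A L ϖ hϖ (x i)
  rw [show x = fun i => unitFrac A L ϖ hϖ.ne_zero ^ e i * unitToFrac A L (u i) from funext hx, hs,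
    isSpecMap_spec hϖ n e u]

/-- Factor a multilinear map on units of `A` through the residue field. -/
theorem exists_lift_residue {M : Type w} [AddCommGroup M] {n : ℕ}
    (G : MultilinearMap ℤ (fun _ : Fin n => Additive Aˣ) M)
    (hone : ∀ (u : Fin n → Aˣ) (i : Fin n), unitResidue A (u i) = 1 →
      G (fun j => Additive.ofMul (u j)) = 0)
    (hst : ∀ (u : Fin n → Aˣ) (i j : Fin n), i ≠ j → (u i : A) + u j = 1 →
      G (fun j => Additive.ofMul (u j)) = 0) :
    ∃ φ : K κ n →+ M, ∀ u : Fin n → Aˣ,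
      φ (symbol fun i => unitResidue A (u i)) = G fun i => Additive.ofMul (u i) := by
  classical
  have hcongr : ∀ u u' : Fin n → Additive Aˣ,
      (∀ i, unitResidue A (u i).toMul = unitResidue A (u' i).toMul) → G u = G u' := by
    intro u u' h
    suffices hs : ∀ s : Finset (Fin n), G (s.piecewise u' u) = G u by
      have := hs Finset.univ
      rwa [Finset.piecewise_univ, eq_comm] at this
    intro s
    induction s using Finset.induction_on with
    | empty => simp
    | @insert i s hi ih =>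
      rw [Finset.piecewise_insert, show u' i = (s.piecewise u' u) i + (u' i - u i) by simp [hi],
        MultilinearMap.map_update_add, Function.update_eq_self, ih, add_eq_left]
      have := hone (fun j => (Function.update (s.piecewise u' u) i (u' i - u i) j).toMul) i
        (by simp [h i])
      simpa using this
  choose sec hsec using unitResidue_surjective (A := A)
  let f : MultilinearMap ℤ (fun _ : Fin n => Additive κˣ) M :=
    MultilinearMap.mk' (fun x => G fun i => Additive.ofMul (sec (x i).toMul))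
      (fun x i a b => by
        set y : Fin n → Additive Aˣ := fun j => Additive.ofMul (sec (x j).toMul)
        have key : ∀ c, G (fun j => Additive.ofMul (sec (Function.update x i c j).toMul)) =
            G (Function.update y i (Additive.ofMul (sec c.toMul))) := fun c => by
          congr 1
          funext j
          rcases eq_or_ne j i with rfl | hj <;> simp [*, y]
        rw [key, key, key, ← MultilinearMap.map_update_add]
        refine hcongr _ _ fun j => ?_
        rcases eq_or_ne j i with rfl | hj <;> simp [*])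
      (fun x i r a => by
        set y : Fin n → Additive Aˣ := fun j => Additive.ofMul (sec (x j).toMul)
        have key : ∀ c, G (fun j => Additive.ofMul (sec (Function.update x i c j).toMul)) =
            G (Function.update y i (Additive.ofMul (sec c.toMul))) := fun c => by
          congr 1
          funext j
          rcases eq_or_ne j i with rfl | hj <;> simp [*, y]
        rw [key, key, ← MultilinearMap.map_update_smul]
        refine hcongr _ _ fun j => ?_
        rcases eq_or_ne j i with rfl | hj <;> simp [*])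
  have hf : ∀ u : Fin n → Aˣ, f (fun i => Additive.ofMul (unitResidue A (u i))) =
      G fun i => Additive.ofMul (u i) := fun u => hcongr _ _ fun i => by simp [hsec]
  refine ⟨MilK.lift f fun x ⟨i, j, hij, h⟩ => ?_, fun u => by rw [lift_symbol, hf]⟩
  set w := fun l => sec (x l)
  have hr : IsLocalRing.residue A (1 - (w i : A)) = (x j : κ) := by
    rw [map_sub, map_one, show IsLocalRing.residue A (w i : A) = (x i : κ) from
      congrArg Units.val (hsec (x i)), ← h, add_sub_cancel_left]
  have hu : IsUnit (1 - (w i : A)) := by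
    by_contra hn
    exact (x j).ne_zero (hr ▸ (IsLocalRing.residue_eq_zero_iff _).mpr hn)
  have hx : x = fun l => unitResidue A (Function.update w j hu.unit l) := by
    funext l
    rcases eq_or_ne l j with rfl | hl
    · refine Units.ext ?_
      simpa [unitResidue] using hr.symm
    · simp [hl, w, hsec]
  rw [hx, hf]
  exact hst _ i j hij.ne (by simp [Function.update_of_ne hij.ne])

include hϖ in
theorem consK_uniformizer_mem {u : Aˣ} (hu : unitResidue A u = 1) {n : ℕ} (w : Fin n → Aˣ) :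
    consK (unitToFrac A L u) (consK (unitFrac A L ϖ hϖ.ne_zero) (symbol fun i => unitToFrac A L (w i))) ∈
      unitSub A L (n + 2) := by
  have simple : ∀ (u v : Aˣ), (u : A) + ϖ * v = 1 →
      consK (unitToFrac A L u) (consK (unitFrac A L ϖ hϖ.ne_zero) (symbol fun i => unitToFrac A L (w i))) ∈
        unitSub A L (n + 2) := by
    intro u v h
    have h0 := consK_steinberg (unitToFrac A L u) (unitFrac A L ϖ hϖ.ne_zero * unitToFrac A L v)
      (by
        have := congrArg (algebraMap A L) h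
        simpa [unitToFrac] using this) (symbol fun i => unitToFrac A L (w i))
    rw [consK_mul, map_add] at h0
    rw [eq_neg_of_add_eq_zero_left h0]
    exact AddSubgroup.neg_mem _
      (consK_mem_unitSub u (consK_mem_unitSub v (AddSubgroup.subset_closure ⟨w, rfl⟩)))
  have hmem : 1 - (u : A) ∈ IsLocalRing.maximalIdeal A := by
    rw [← IsLocalRing.residue_eq_zero_iff, map_sub, map_one, sub_eq_zero]
    exact (congrArg Units.val hu).symm
  rw [(IsDiscreteValuationRing.irreducible_iff_uniformizer ϖ).mp hϖ, Ideal.mem_span_singleton] at hmem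
  obtain ⟨a, ha⟩ := hmem
  by_cases hau : IsUnit a
  · exact simple u hau.unit (by
      rw [IsUnit.unit_spec, ← ha]; ring)
  · have h1 : IsUnit (1 - ϖ) := IsLocalRing.isUnit_one_sub_self_of_mem_nonunits ϖ hϖ.not_isUnit
    have h2 : IsUnit (a - 1) := by
      rw [← neg_sub]
      exact (IsLocalRing.isUnit_one_sub_self_of_mem_nonunits a hau).neg
    set u₁ := h1.unit
    set u₂ := u * u₁⁻¹
    have hu2 : u = u₁ * u₂ := by simp [u₂]
    rw [hu2, map_mul, consK_mul]
    refine AddSubgroup.add_mem _ (simple u₁ 1 (by simp [u₁])) (simple u₂ (h2.unit * u₁⁻¹) ?_)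
    have hmul : ((u₂ : A) + ϖ * ((h2.unit * u₁⁻¹ : Aˣ) : A)) * (u₁ : A) = 1 * (u₁ : A) := by
      have e1 : (u₂ : A) * (u₁ : A) = u := by rw [← Units.val_mul]; simp [u₂]
      have e2 : ((h2.unit * u₁⁻¹ : Aˣ) : A) * (u₁ : A) = a - 1 := by rw [← Units.val_mul]; simp
      have e3 : (u₁ : A) = 1 - ϖ := rfl
      rw [add_mul, e1, mul_assoc, e2, e3]
      linear_combination -ha
    exact u₁.isUnit.mul_right_cancel hmul

include hϖ in
theorem consK_one_unit_mem {u : Aˣ} (hu : unitResidue A u = 1) {n : ℕ} (z : K L n) :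
    consK (unitToFrac A L u) z ∈ unitSub A L (n + 1) := by
  cases n with
  | zero =>
    refine mem_of_symbol (H := (unitSub A L 1).comap (consK (unitToFrac A L u))) (fun x => ?_) z
    rw [show x = fun i => unitToFrac A L ((Fin.elim0 : Fin 0 → Aˣ) i) from funext fun i => i.elim0]
    exact consK_mem_unitSub u (AddSubgroup.subset_closure ⟨_, rfl⟩)
  | succ n =>
    exact mem_of_generators hϖ ((unitSub A L (n + 2)).comap (consK (unitToFrac A L u)))
      (fun w => consK_mem_unitSub u (AddSubgroup.subset_closure ⟨w, rfl⟩))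
      (fun w => consK_uniformizer_mem hϖ hu w) z

/-- The subgroup generated by symbols whose first entry is a principal unit. -/
def oneUnitSub (A : Type u) [CommRing A] [IsLocalRing A] (L : Type v) [Field L] [Algebra A L] (n : ℕ) :
    AddSubgroup (K L (n + 1)) :=
  AddSubgroup.closure {z : K L (n + 1) | ∃ (u₀ : Aˣ) (w : Fin n → Lˣ),
    IsLocalRing.residue A (u₀ : A) = 1 ∧ z = symbol (Fin.cons (unitToFrac A L u₀) w)}

include hϖ in
theorem oneUnitSub_le (n : ℕ) : oneUnitSub A L n ≤ unitSub A L (n + 1) := by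
  rw [oneUnitSub, AddSubgroup.closure_le]
  rintro _ ⟨u₀, w, hu, rfl⟩
  rw [cons_symbol_eq]
  exact consK_one_unit_mem hϖ (Units.ext hu) _

theorem symbol_mem_oneUnitSub {n : ℕ} (x : Fin (n + 1) → Lˣ) (j : Fin (n + 1)) (u₀ : Aˣ)
    (hu : unitResidue A u₀ = 1) (hx : x j = unitToFrac A L u₀) : symbol x ∈ oneUnitSub A L n := by
  have hmem : symbol (x ∘ Equiv.swap 0 j) ∈ oneUnitSub A L n := by
    refine AddSubgroup.subset_closure ⟨u₀, Fin.tail (x ∘ Equiv.swap 0 j), congrArg Units.val hu, ?_⟩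
    congr 1
    conv_lhs => rw [← Fin.cons_self_tail (x ∘ Equiv.swap 0 j)]
    congr 1
  rcases eq_or_ne 0 j with rfl | hj
  · simpa using hmem
  · rw [symbol_swap x hj] at hmem
    simpa using (AddSubgroup.neg_mem_iff _).mp hmem

include hϖ in
theorem tame_ker {n : ℕ} {d : K L (n + 1) →+ K κ n} (hd : IsTameSymbol A L n d) :
    d.ker = unitSub A L (n + 1) := by
  refine le_antisymm (fun z hz => ?_) ?_
  · let G : MultilinearMap ℤ (fun _ : Fin n => Additive Aˣ) (K L (n + 1) ⧸ unitSub A L (n + 1)) :=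
      ((QuotientAddGroup.mk' (unitSub A L (n + 1))).comp
        (consK (unitFrac A L ϖ hϖ.ne_zero))).toIntLinearMap.compMultilinearMap
        ((sym L n).compLinearMap fun _ => (MonoidHom.toAdditive (unitToFrac A L)).toIntLinearMap)
    have hG : ∀ u : Fin n → Aˣ, G (fun i => Additive.ofMul (u i)) = QuotientAddGroup.mk'
        (unitSub A L (n + 1)) (consK (unitFrac A L ϖ hϖ.ne_zero) (symbol fun i => unitToFrac A L (u i))) :=
      fun u => rfl
    obtain ⟨φ, hφ⟩ := exists_lift_residue G
      (fun u i hi => by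
        rw [hG, QuotientAddGroup.mk'_apply, QuotientAddGroup.eq_zero_iff, consK_symbol]
        exact oneUnitSub_le hϖ n (symbol_mem_oneUnitSub _ i.succ (u i) hi (by simp)))
      (fun u i j hij h => by
        rw [hG, symbol_eq_zero_of_add_eq_one _ hij (by
          have := congrArg (algebraMap A L) h
          simpa [unitToFrac] using this)]
        simp)
    have key : φ.comp d = QuotientAddGroup.mk' (unitSub A L (n + 1)) := by
      refine AddMonoidHom.ext fun y => sub_eq_zero.mp ?_
      refine mem_of_generators hϖ (φ.comp d - QuotientAddGroup.mk' (unitSub A L (n + 1))).ker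
        (fun u => ?_) (fun u => ?_) y
      · have : symbol (fun i => unitToFrac A L (u i)) ∈ unitSub A L (n + 1) :=
          AddSubgroup.subset_closure ⟨u, rfl⟩
        simp [AddMonoidHom.mem_ker, tame_vanishes hϖ hd u,
          (QuotientAddGroup.eq_zero_iff _).mpr this]
      · have h1 := hd ϖ hϖ u
        rw [cons_symbol_eq] at h1
        simp [AddMonoidHom.mem_ker, -consK_symbol, h1, hφ, hG]
    have := DFunLike.congr_fun key z
    rw [AddMonoidHom.comp_apply, hz, map_zero] at this
    exact (QuotientAddGroup.eq_zero_iff z).mp this.symm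
  · rw [unitSub, AddSubgroup.closure_le]
    rintro _ ⟨u, rfl⟩
    exact tame_vanishes hϖ hd u

theorem exists_spec_tame {n : ℕ} (a : K κ (n + 1)) (b : K κ n) :
    ∃ x : K L (n + 1), spec hϖ (n + 1) x = a ∧ tame hϖ n x = b := by
  have hπ : ∀ u : Fin n → Aˣ,
      spec (A := A) hϖ (n + 1) (consK (unitFrac A L ϖ hϖ.ne_zero) (symbol fun i => unitToFrac A L (u i))) = 0 := by
    intro u
    rw [spec_consK]
    have : resHom A L ϖ hϖ (unitFrac A L ϖ hϖ.ne_zero) = 1 := by
      have := resHom_mk A L ϖ hϖ 1 1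
      rwa [zpow_one, map_one, mul_one, map_one] at this
    rw [this, consK_one]
  let R := AddMonoidHom.prod (spec (A := A) (L := L) hϖ (n + 1)) (tame hϖ n)
  suffices h : ((a, b) : K κ (n + 1) × K κ n) ∈ R.range by
    obtain ⟨x, hx⟩ := h
    exact ⟨x, congrArg Prod.fst hx, congrArg Prod.snd hx⟩
  have ha : ∀ a : K κ (n + 1), ((a, 0) : K κ (n + 1) × K κ n) ∈ R.range := fun a =>
    mem_of_symbol (H := R.range.comap (AddMonoidHom.inl (K κ (n + 1)) (K κ n))) (fun x => by
      choose u hu using fun i => unitResidue_surjective (x i)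
      exact ⟨symbol fun i => unitToFrac A L (u i), Prod.ext
        ((spec_units hϖ u).trans (congrArg symbol (funext hu))) (tame_units hϖ u)⟩) a
  have hb : ∀ b : K κ n, ((0, b) : K κ (n + 1) × K κ n) ∈ R.range := fun b =>
    mem_of_symbol (H := R.range.comap (AddMonoidHom.inr (K κ (n + 1)) (K κ n))) (fun x => by
      choose u hu using fun i => unitResidue_surjective (x i)
      refine ⟨consK (unitFrac A L ϖ hϖ.ne_zero) (symbol fun i => unitToFrac A L (u i)), Prod.ext (hπ u) ?_⟩
      have := isTameSymbol_tame (L := L) hϖ n ϖ hϖ u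
      rw [cons_symbol_eq] at this
      exact this.trans (congrArg symbol (funext hu))) b
  have hsum := R.range.add_mem (ha a) (hb b)
  rwa [Prod.mk_add_mk, add_zero, zero_add] at hsum

theorem spec_tame_ker {n : ℕ} (x : K L (n + 1)) :
    (spec hϖ (n + 1) x = 0 ∧ tame hϖ n x = 0) ↔ x ∈ oneUnitSub A L n := by
  constructor
  · rintro ⟨hs, hd⟩
    have hxU : x ∈ unitSub A L (n + 1) := (tame_ker hϖ (isTameSymbol_tame hϖ n)).le hd
    let G : MultilinearMap ℤ (fun _ : Fin (n + 1) => Additive Aˣ) (K L (n + 1) ⧸ oneUnitSub A L n) :=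
      (QuotientAddGroup.mk' (oneUnitSub A L n)).toIntLinearMap.compMultilinearMap
        ((sym L (n + 1)).compLinearMap fun _ => (MonoidHom.toAdditive (unitToFrac A L)).toIntLinearMap)
    have hG : ∀ u : Fin (n + 1) → Aˣ, G (fun i => Additive.ofMul (u i)) = QuotientAddGroup.mk'
        (oneUnitSub A L n) (symbol fun i => unitToFrac A L (u i)) := fun u => rfl
    obtain ⟨φ, hφ⟩ := exists_lift_residue G
      (fun u i hi => by
        rw [hG, QuotientAddGroup.mk'_apply, QuotientAddGroup.eq_zero_iff]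
        exact symbol_mem_oneUnitSub _ i (u i) hi rfl)
      (fun u i j hij h => by
        rw [hG, symbol_eq_zero_of_add_eq_one _ hij (by
          have := congrArg (algebraMap A L) h
          simpa [unitToFrac] using this)]
        simp)
    have key : x ∈ (φ.comp (spec hϖ (n + 1)) - QuotientAddGroup.mk' (oneUnitSub A L n)).ker :=
      (AddSubgroup.closure_le _).mpr (by
        rintro _ ⟨u, rfl⟩
        simp [AddMonoidHom.mem_ker, spec_units, hφ, hG]) hxU
    rw [AddMonoidHom.mem_ker, AddMonoidHom.sub_apply, AddMonoidHom.comp_apply, hs, map_zero,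
      zero_sub, neg_eq_zero] at key
    exact (QuotientAddGroup.eq_zero_iff x).mp key
  · intro hx
    have hd := (tame_ker hϖ (isTameSymbol_tame (L := L) hϖ n)).ge (oneUnitSub_le hϖ n hx)
    refine ⟨?_, hd⟩
    suffices h : oneUnitSub A L n ≤ (spec (A := A) hϖ (n + 1)).ker from h hx
    rw [oneUnitSub, AddSubgroup.closure_le]
    rintro _ ⟨u₀, w, hu, rfl⟩
    rw [SetLike.mem_coe, AddMonoidHom.mem_ker, cons_symbol_eq, spec_consK, resHom_unit,
      show unitResidue A u₀ = 1 from Units.ext hu, consK_one]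

end Maps

end Groth.Agent.H23MilK
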